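import Mathlib
import Groth.Agent.H54.WI_DU

/-!
# helper74: (DO) a nonempty relatively open subset of an irreducible closed subset of a
scheme locally of finite type over a field has the same dimension
-/

set_option autoImplicit false
universe u
open CategoryTheory CategoryTheory.Limits AlgebraicGeometry

namespace Groth.Agent.H74.WI.DO

variable (k : Type u) [Field k]

theorem dim_open_inter_eq {W : Scheme.{u}} (p : W ⟶ Spec (CommRingCat.of k))
    [LocallyOfFiniteType p] (Y : Set W) (hYc : IsClosed Y) (hYi : IsIrreducible Y) (U : Set W)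
    (hU : IsOpen U) (hne : (U ∩ Y).Nonempty) :
    topologicalKrullDim ↥(U ∩ Y) = topologicalKrullDim ↥Y := by
  apply le_antisymm
    ((Topology.IsEmbedding.inclusion (Set.inter_subset_right (s := U) (t := Y))).isInducing.topologicalKrullDim_le)
  obtain ⟨η, hη⟩ := QuasiSober.sober hYi hYc
  have hcl : closure {η} = Y := hη
  have hηY : η ∈ Y := hcl ▸ subset_closure rfl
  have hηU : η ∈ U := by
    obtain ⟨y, hyU, hyY⟩ := hne
    have hy : y ∈ closure {η} := hcl.symm ▸ hyY
    obtain ⟨z, hzU, hz⟩ := mem_closure_iff.mp hy U hU hyU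
    rwa [Set.mem_singleton_iff.mp hz] at hzU
  have h1 : (Groth.Agent.H54.tdeg p η : WithBot ℕ∞) ≤ topologicalKrullDim ↥(Y ∩ U) :=
    Groth.Agent.H54.WI_DU.tdeg_le_dim_inter p Y U hYc hU η ⟨hηY, hηU⟩
  have h2 : topologicalKrullDim ↥Y ≤ (Groth.Agent.H54.tdeg p η : ℕ) :=
    Groth.Agent.H54.WI_DU.dim_le_of_forall_tdeg_le p Y hYc (Groth.Agent.H54.tdeg p η)
      (fun x hx => Groth.Agent.H54.tdeg_le_of_specializes p
        (specializes_iff_mem_closure.mpr (hcl.symm ▸ hx)))
  rw [Set.inter_comm]
  exact h2.trans h1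

end Groth.Agent.H74.WI.DO
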