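import Mathlib
import Groth.Agent.H74.WI.DO
import Groth.Agent.H60.WI_TL
import Groth.Agent.H60.WI_DS
import Groth.Agent.H75.WI_CH
import Groth.Agent.H54.WI_AR
import Groth.Agent.H54.WI_DU

/-!
# helper74: S14484 assembly — well-intersecting irreducible closed subsets have distinct images
-/

set_option autoImplicit false
set_option linter.style.haveILetI false
universe u
open CategoryTheory CategoryTheory.Limits AlgebraicGeometry

namespace Groth.Agent.H74.WI

theorem dim_mono {T : Type*} [TopologicalSpace T] {A B : Set T} (h : A ⊆ B) :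
    topologicalKrullDim ↥A ≤ topologicalKrullDim ↥B :=
  (Topology.IsEmbedding.inclusion h).isInducing.topologicalKrullDim_le

theorem main (k : Type u) [Field k] (X S : Scheme.{u})
    (q : S ⟶ Spec (CommRingCat.of k)) (f : X ⟶ S)
    [LocallyOfFiniteType q] [CompactSpace S] [LocallyOfFiniteType f] [CompactSpace X]
    [IsSeparated f]
    (Y Z : Set X) (hYc : IsClosed Y) (hYi : IsIrreducible Y) (hZc : IsClosed Z)
    (hWI : topologicalKrullDim {p : ↥(pullback f f) | pullback.fst f f p ∈ Y ∧
      pullback.snd f f p ∈ Z ∧ p ∉ Set.range (pullback.diagonal f)} + topologicalKrullDim S ≤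
        topologicalKrullDim Y + topologicalKrullDim Z)
    (hYS : topologicalKrullDim Y < topologicalKrullDim S)
    (hZS : topologicalKrullDim Z < topologicalKrullDim S)
    (hYZ : ¬ Y ⊆ Z) :
    ¬ (f.base '' Y ⊆ closure (f.base '' Y ∩ f.base '' Z)) ∧ ¬ (f.base '' Y ⊆ f.base '' Z) := by
  have key : ¬ (f.base '' Y ⊆ closure (f.base '' Y ∩ f.base '' Z)) := by
    intro h
    obtain ⟨U, hU, hne, hsub⟩ := Groth.Agent.H75.WI_CH.exists_open_inter_subset k q f Y Z hYc hYi hZc h
    let pP : pullback f f ⟶ Spec (CommRingCat.of k) := pullback.fst f f ≫ f ≫ q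
    let F : Set ↥(pullback f f) := {p | pullback.fst f f p ∈ Y ∧ pullback.snd f f p ∈ Z}
    let D : Set ↥(pullback f f) := Set.range (pullback.diagonal f)
    have hFc : IsClosed F :=
      (hYc.preimage (pullback.fst f f).continuous).inter (hZc.preimage (pullback.snd f f).continuous)
    have hDc : IsClosed D := (pullback.diagonal f).isClosedEmbedding.isClosed_range
    -- dim Y = dim (U ∩ Y)
    have h1 := DO.dim_open_inter_eq k (f ≫ q) Y hYc hYi U hU hne
    -- a surjection onto U ∩ Y
    let FU : Set ↥(pullback f f) := F ∩ (pullback.fst f f ⁻¹' U)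
    have hFU : IsLocallyClosed FU :=
      hFc.isLocallyClosed.inter (hU.preimage (pullback.fst f f).continuous).isLocallyClosed
    have hUY : IsLocallyClosed (U ∩ Y) := hU.isLocallyClosed.inter hYc.isLocallyClosed
    have himg : (pullback.fst f f).base '' FU = U ∩ Y := by
      apply Set.Subset.antisymm
      · rintro _ ⟨p, ⟨⟨hp1, _⟩, hp3⟩, rfl⟩
        exact ⟨hp3, hp1⟩
      · rintro y ⟨hyU, hyY⟩
        obtain ⟨z, hzZ, hz⟩ := hsub ⟨hyU, hyY⟩
        obtain ⟨p, hp1, hp2⟩ := Scheme.Pullback.exists_preimage_pullback (f := f) (g := f) y z hz.symm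
        refine ⟨p, ⟨⟨?_, ?_⟩, ?_⟩, hp1⟩
        · show pullback.fst f f p ∈ Y
          rw [hp1]; exact hyY
        · show pullback.snd f f p ∈ Z
          rw [hp2]; exact hzZ
        · show pullback.fst f f p ∈ U
          rw [hp1]; exact hyU
    have h2 : topologicalKrullDim ↥(U ∩ Y) ≤ topologicalKrullDim ↥FU :=
      Groth.Agent.H60.WI_DS.dim_le_of_image_eq k pP (f ≫ q) (pullback.fst f f) rfl FU hFU (U ∩ Y) hUY himg
    have h3 : topologicalKrullDim ↥FU ≤ topologicalKrullDim ↥F := dim_mono Set.inter_subset_left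
    have h4 := Groth.Agent.H54.WI_DU.dim_le_max_diff_inter k pP F D hFc hDc
    -- the diagonal part
    have hdiag : (pullback.diagonal f).base '' (Y ∩ Z) = F ∩ D := by
      apply Set.Subset.antisymm
      · rintro _ ⟨x, ⟨hxY, hxZ⟩, rfl⟩
        have e1 : pullback.fst f f ((pullback.diagonal f) x) = x := by
          rw [← Scheme.Hom.comp_apply, pullback.diagonal_fst]; rfl
        have e2 : pullback.snd f f ((pullback.diagonal f) x) = x := by
          rw [← Scheme.Hom.comp_apply, pullback.diagonal_snd]; rfl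
        refine ⟨⟨?_, ?_⟩, ⟨x, rfl⟩⟩
        · show pullback.fst f f ((pullback.diagonal f) x) ∈ Y
          rw [e1]; exact hxY
        · show pullback.snd f f ((pullback.diagonal f) x) ∈ Z
          rw [e2]; exact hxZ
      · rintro _ ⟨⟨hp1, hp2⟩, ⟨x, rfl⟩⟩
        have e1 : pullback.fst f f ((pullback.diagonal f) x) = x := by
          rw [← Scheme.Hom.comp_apply, pullback.diagonal_fst]; rfl
        have e2 : pullback.snd f f ((pullback.diagonal f) x) = x := by
          rw [← Scheme.Hom.comp_apply, pullback.diagonal_snd]; rfl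
        refine ⟨x, ⟨?_, ?_⟩, rfl⟩
        · change pullback.fst f f ((pullback.diagonal f) x) ∈ Y at hp1
          rwa [e1] at hp1
        · change pullback.snd f f ((pullback.diagonal f) x) ∈ Z at hp2
          rwa [e2] at hp2
    have hdiag_w : pullback.diagonal f ≫ pP = f ≫ q := by
      show pullback.diagonal f ≫ pullback.fst f f ≫ f ≫ q = f ≫ q
      rw [pullback.diagonal_fst_assoc]
    have h5 : topologicalKrullDim ↥(F ∩ D) ≤ topologicalKrullDim ↥(Y ∩ Z) :=
      Groth.Agent.H60.WI_DS.dim_le_of_image_eq k (f ≫ q) pP (pullback.diagonal f) hdiag_w (Y ∩ Z)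
        (hYc.inter hZc).isLocallyClosed (F ∩ D) (hFc.inter hDc).isLocallyClosed hdiag
    have hfin : topologicalKrullDim ↥Y < ⊤ := lt_of_lt_of_le hYS le_top
    have h6 : topologicalKrullDim ↥(Y ∩ Z) < topologicalKrullDim ↥Y :=
      Groth.Agent.H60.WI_TL.dim_lt_of_ssubset_irreducible Y (Y ∩ Z) hYi (hYc.inter hZc)
        ⟨Set.inter_subset_left, fun hsub' => hYZ fun y hy => (hsub' hy).2⟩ hfin
    -- the off-diagonal part
    have hE : F \ D = {p : ↥(pullback f f) | pullback.fst f f p ∈ Y ∧
        pullback.snd f f p ∈ Z ∧ p ∉ Set.range (pullback.diagonal f)} := by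
      ext p
      exact ⟨fun ⟨⟨a, b⟩, c⟩ => ⟨a, b, c⟩, fun ⟨a, b, c⟩ => ⟨⟨a, b⟩, c⟩⟩
    have ha0 : (0 : WithBot ℕ∞) ≤ topologicalKrullDim ↥Y := by
      obtain ⟨y, hy⟩ := hYi.nonempty
      haveI : Nonempty (TopologicalSpace.IrreducibleCloseds ↥Y) :=
        ⟨⟨closure {⟨y, hy⟩}, isIrreducible_singleton.closure, isClosed_closure⟩⟩
      exact Order.krullDim_nonneg
    have h7 : topologicalKrullDim ↥(F \ D) < topologicalKrullDim ↥Y := by
      rw [hE]
      exact Groth.Agent.H54.WI_AR.arith _ _ _ _ hWI hZS ha0 hYS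
    have : topologicalKrullDim ↥Y < topologicalKrullDim ↥Y :=
      calc topologicalKrullDim ↥Y = topologicalKrullDim ↥(U ∩ Y) := h1.symm
        _ ≤ topologicalKrullDim ↥FU := h2
        _ ≤ topologicalKrullDim ↥F := h3
        _ ≤ max (topologicalKrullDim ↥(F \ D)) (topologicalKrullDim ↥(F ∩ D)) := h4
        _ < topologicalKrullDim ↥Y := max_lt h7 (lt_of_le_of_lt h5 h6)
    exact lt_irrefl _ this
  refine ⟨key, fun h => key ?_⟩
  intro s hs
  exact subset_closure ⟨hs, h hs⟩

end Groth.Agent.H74.WI
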